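import Groth.Agent.H14.GerbeDesc.Sheaf
import Groth.Agent.Lib.Modules.SupportOps
import Groth.Prelude.Def_StMod3
import Groth.Prelude.Def_StMod6
import Groth.Prelude.Def_StGerb
import Groth.Prelude.Def_AlgSp

/-!
Finiteness properties of quasi-coherent modules along gerbes.
-/

set_option autoImplicit false
set_option backward.isDefEq.respectTransparency false
set_option backward.isDefEq.respectTransparency.types false
set_option linter.style.haveILetI false

universe u w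

open CategoryTheory CategoryTheory.Limits AlgebraicGeometry Opposite
open Groth.Agent.Lib

namespace Groth.Agent.H14.GerbeDesc

open StMod (sch bmap)

theorem castMod_prop {X T : Scheme.{u}} (h : X = T) (M : X.Modules) (P : ∀ {Z : Scheme.{u}}, Z.Modules → Prop) :
    P (StMod.castMod h M) ↔ P M := by
  subst h
  exact Iff.rfl

theorem isFP_of_iso {X : Scheme.{u}} {M N : X.Modules} (e : M ≅ N) (h : CohB1.IsFP M) : CohB1.IsFP N :=
  (SheafOfModules.isFinitePresentation X.ringCatSheaf).prop_of_iso e h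

theorem isFinLocFree_of_iso {X : Scheme.{u}} {M N : X.Modules} (e : M ≅ N) (h : FlatMod.IsFinLocFree M) :
    FlatMod.IsFinLocFree N := fun x => by
  obtain ⟨U, n, hx, ⟨i⟩⟩ := h x
  exact ⟨U, n, hx, ⟨(Scheme.Modules.restrictFunctor U.ι).mapIso e.symm ≪≫ i⟩⟩

variable {S : Scheme.{u}} {𝒳 𝒴 : AlgSt.Cat S} (π : 𝒳 ⥤ᵇ 𝒴)

theorem fppfWhere_of_comap (hπ : Gerb.LocSurjObj (QuotSh.J Scheme.fppfPrecoverage S) π) (G : StMod.QCoh 𝒴)
    (P : ∀ {Z : Scheme.{u}}, Z.Modules → Prop)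
    (hiso : ∀ {Z : Scheme.{u}} {M N : Z.Modules}, (M ≅ N) → P M → P N)
    (h : ∀ x, P (((StMod.comapQ π).obj G).obj.obj x)) (y : 𝒴.obj) : FppfWhere (G.obj.obj y) @P := by
  intro t
  obtain ⟨R, hR, hlift⟩ := hπ y
  rw [GrothendieckTopology.mem_over_iff] at hR
  haveI : MorphismProperty.IsMultiplicative @LocallyOfFinitePresentation.{u} :=
    { id_mem := fun X ↦ (inferInstance : LocallyOfFinitePresentation (𝟙 X)) }
  obtain ⟨𝒰, hle⟩ := Scheme.exists_cover_of_mem_grothendieckTopology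
    (P := @Flat ⊓ @LocallyOfFinitePresentation) hR
  obtain ⟨i, z, hz⟩ := 𝒰.exists_eq t
  let f : Over.mk (𝒰.f i ≫ (𝒴.p.obj y).hom) ⟶ 𝒴.p.obj y := Over.homMk (𝒰.f i)
  obtain ⟨x, g, hg⟩ := hlift f ((Sieve.overEquiv_iff _ _).1 (hle _ _ (Presieve.ofArrows.mk i)))
  obtain ⟨hfl, hfp⟩ : Flat (𝒰.f i) ∧ LocallyOfFinitePresentation (𝒰.f i) := 𝒰.map_prop i
  have e : 𝒴.p.obj (π.obj x) = Over.mk (𝒰.f i ≫ (𝒴.p.obj y).hom) := IsHomLift.domain_eq 𝒴.p f g
  have eg : 𝒴.p.map g = eqToHom e ≫ f := by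
    simpa using IsHomLift.fac' 𝒴.p f g
  have eb : bmap 𝒴 g = (eqToHom e).left ≫ 𝒰.f i := congrArg CommaMorphism.left eg
  haveI : IsIso (eqToHom e).left := inferInstanceAs (IsIso ((Over.forget S).map (eqToHom e)))
  refine ⟨_, bmap 𝒴 g, eb ▸ inferInstance, eb ▸ inferInstance, ?_, ?_⟩
  · refine ⟨(eqToHom e.symm).left z, ?_⟩
    rw [eb]
    erw [← Scheme.Hom.comp_apply, ← Category.assoc, ← Over.comp_left, eqToHom_trans, eqToHom_refl]
    exact hz
  · have := G.property.1 g (g := bmap 𝒴 g) rfl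
    refine hiso (asIso (((Scheme.Modules.pullbackPushforwardAdjunction (bmap 𝒴 g)).homEquiv (G.obj.obj y)
      (G.obj.obj (π.obj x))).symm (G.obj.map g rfl))).symm ?_
    exact (castMod_prop (StMod.sch_obj_eq π x) _ @P).1 (h x)

theorem finType_iff_comapQ (hπ : Gerb.IsGerbeOver (QuotSh.J Scheme.fppfPrecoverage S) π) (G : StMod.QCoh 𝒴) :
    (G.obj.IsFinType ↔ ((StMod.comapQ π).obj G).obj.IsFinType) ∧
      (G.obj.IsFinPres ↔ ((StMod.comapQ π).obj G).obj.IsFinPres) ∧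
      ((G.obj.IsLocFree ∧ G.obj.IsFinType) ↔
        (((StMod.comapQ π).obj G).obj.IsLocFree ∧ ((StMod.comapQ π).obj G).obj.IsFinType)) := by
  have hq : ∀ y, (G.obj.obj y).IsQuasicoherent := G.property.2
  refine ⟨⟨fun h x => (castMod_prop _ _ fun M => CohB1.IsFT M).2 (h (π.obj x)), fun h y => ?_⟩,
    ⟨fun h x => (castMod_prop _ _ fun M => CohB1.IsFP M).2 (h (π.obj x)), fun h y => ?_⟩,
    ⟨fun h => ⟨fun x => (castMod_prop _ _ fun {Z : Scheme.{u}} (M : Z.Modules) => SheafOfModules.IsLocallyFree.{u, u, u} (R := Z.ringCatSheaf) M).2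
      (h.1 (π.obj x)), fun x => (castMod_prop _ _ fun M => CohB1.IsFT M).2 (h.2 (π.obj x))⟩, fun h => ?_⟩⟩
  · have := hq y
    exact isFT_of_fppfWhere (fppfWhere_of_comap π hπ.1 G (fun M => CohB1.IsFT M)
      (fun e hM => @Modules.SupportOps.isFT_of_iso _ _ _ e hM) h y)
  · have := hq y
    exact isFP_of_fppfWhere (fppfWhere_of_comap π hπ.1 G (fun M => CohB1.IsFP M)
      (fun e hM => isFP_of_iso e hM) h y)
  · have key : ∀ y, FlatMod.IsFinLocFree (G.obj.obj y) := fun y =>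
      have := hq y
      isFinLocFree_of_fppfWhere (fppfWhere_of_comap π hπ.1 G (fun M => FlatMod.IsFinLocFree M)
        (fun e hM => isFinLocFree_of_iso e hM)
        (fun x => @isFinLocFree_of_isLocallyFree _ _ (h.1 x) (h.2 x)) y)
    refine ⟨fun y => isLocallyFree_of_isFinLocFree (key y), fun y => ?_⟩
    haveI : SheafOfModules.IsFinitePresentation (R := (sch 𝒴 y).ringCatSheaf) (G.obj.obj y) :=
      TensorMod.FPConv.isFP_of_isFinLocFree (key y)
    exact inferInstance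

end Groth.Agent.H14.GerbeDesc
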