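import Groth.Agent.Lib.Modules.AffineSections
import Groth.Agent.Lib.Perfect.TildeFT
import Groth.Agent.H56.RelPC.Single
import Mathlib.Algebra.Category.ModuleCat.Sheaf.LocallyFree
import Mathlib.LinearAlgebra.Finsupp.VectorSpace

/-!
Locally free sheaves of finite type are the finite locally free ones.
-/

set_option autoImplicit false
set_option backward.isDefEq.respectTransparency false
set_option backward.isDefEq.respectTransparency.types false
set_option linter.style.haveILetI false

noncomputable section

universe u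

open CategoryTheory CategoryTheory.Limits AlgebraicGeometry Opposite TopologicalSpace
open Groth.Agent.Lib

namespace Groth.Agent.H14.GerbeDesc

variable {X : Scheme.{u}} {M : X.Modules}

/-- A free module of finite rank, with the index type changed. -/
def freeIso {Y : Scheme.{u}} {I : Type u} {n : ℕ} (g : I ≃ Fin n) :
    SheafOfModules.free (R := Y.ringCatSheaf) I ≅ FlatMod.freeMod Y n :=
  Sigma.whiskerEquiv (C := Y.Modules) (f := fun _ : I => Coh.structureModule Y)
    (g := fun _ : Fin n => Coh.structureModule Y) g fun _ => Iso.refl _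

/-- The restriction to an open as a module on the slice site. -/
def overIso (U : X.Opens) (N : X.Modules) :
    (Scheme.Modules.overEquiv U).inverse.obj (N.restrict U.ι) ≅ SheafOfModules.over N U :=
  (Scheme.Modules.overEquiv U).inverse.mapIso ((Scheme.Modules.overFunctorEquiv U).app N).symm ≪≫
    ((Scheme.Modules.overEquiv U).unitIso.app (SheafOfModules.over N U)).symm

theorem isLocallyFree_of_isFinLocFree (h : FlatMod.IsFinLocFree M) :
    SheafOfModules.IsLocallyFree (R := X.ringCatSheaf) M := by
  choose U n hx hi using h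
  have hgen : ∀ x : X, ∃ (J : Type u) (i : SheafOfModules.free (R := X.ringCatSheaf.over (U x)) J ⟶
      SheafOfModules.over M (U x)), IsIso i := fun x => by
    let E := Scheme.Modules.overEquiv (U x)
    let F : SheafOfModules.{u} (U x : Scheme.{u}).ringCatSheaf ⥤
        SheafOfModules.{u} (X.ringCatSheaf.over (U x)) := E.inverse
    haveI : PreservesColimitsOfSize.{u, u} F :=
      Adjunction.leftAdjoint_preservesColimits.{u, u} E.symm.toAdjunction
    let η := (E.inverse.mapIso (Scheme.Modules.restrictUnitIso (U x).ι).symm ≪≫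
      overIso (U x) (SheafOfModules.unit X.ringCatSheaf)).symm
    let i : SheafOfModules.free (R := (U x : Scheme.{u}).ringCatSheaf) (ULift.{u} (Fin (n x))) ≅
        M.restrict (U x).ι := freeIso Equiv.ulift ≪≫ (hi x).some.symm
    exact ⟨_, ((SheafOfModules.mapFreeIso F _ η) ≪≫ F.mapIso i ≪≫ overIso (U x) M).hom, Iso.isIso_hom _⟩
  choose J i hi' using hgen
  let q : SheafOfModules.LocalGeneratorsData (C := X.Opens) (R := X.ringCatSheaf) M :=
    { I := X
      X := U
      coversTop := (Opens.coversTop_iff _ _).mpr
        (eq_top_iff.mpr fun x _ ↦ Opens.mem_iSup.mpr ⟨x, hx x⟩)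
      generators := fun x =>
        { I := J x
          s := (SheafOfModules.over M (U x)).freeHomEquiv (i x)
          epi := by
            rw [Equiv.symm_apply_apply]
            have := hi' x
            infer_instance } }
  refine SheafOfModules.IsLocallyFree.mk (C := X.Opens) (R := X.ringCatSheaf) (M := M) ⟨q, by
    constructor
    intro x
    change IsIso ((SheafOfModules.over M (U x)).freeHomEquiv.symm
      ((SheafOfModules.over M (U x)).freeHomEquiv (i x)))
    rw [Equiv.symm_apply_apply]
    exact hi' x⟩

theorem finite_of_isFT_free {R : CommRingCat.{u}} [Nontrivial R] {I : Type u}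
    (h : CohB1.IsFT (X := Spec R) (SheafOfModules.free (R := (Spec R).ringCatSheaf) I)) : Finite I := by
  let f : I → ModuleCat.{u} R := fun _ => ModuleCat.of R R
  have : PreservesColimitsOfSize.{u, u} (tilde.functor R) :=
    (tilde.adjunction (R := R)).leftAdjoint_preservesColimits
  let e : (tilde.functor R).obj (∐ f) ≅ SheafOfModules.free (R := (Spec R).ringCatSheaf) I :=
    PreservesCoproduct.iso (tilde.functor R) f ≪≫ Sigma.mapIso (fun _ => tildeSelf (R := R))
  have := Perfect.TildeFT.finite_of_isFT (∐ f)
    (@Modules.SupportOps.isFT_of_iso (Spec R) _ _ e.symm h)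
  let g : (∐ f) ⟶ ModuleCat.of R (I →₀ R) :=
    Sigma.desc fun j => ModuleCat.ofHom (Finsupp.lsingle j)
  have hg : Function.Surjective g.hom := by
    intro c
    induction c using Finsupp.induction_linear with
    | zero => exact ⟨0, map_zero _⟩
    | add a b ha hb =>
      obtain ⟨a, rfl⟩ := ha
      obtain ⟨b, rfl⟩ := hb
      exact ⟨a + b, map_add _ _ _⟩
    | single j r =>
      exact ⟨(Sigma.ι f j).hom r, congrArg (fun φ : f j ⟶ _ => φ.hom r) (Sigma.ι_desc _ j)⟩
  have : Module.Finite R (I →₀ R) := Module.Finite.of_surjective g.hom hg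
  exact Module.Finite.finite_basis (Finsupp.basisSingleOne (ι := I) (R := R))

theorem isFinLocFree_of_isLocallyFree [h : SheafOfModules.IsLocallyFree (R := X.ringCatSheaf) M]
    (hM : CohB1.IsFT M) : FlatMod.IsFinLocFree M := by
  intro x
  obtain ⟨q, hq⟩ := h.exists_isLocallyFreeData
  obtain ⟨i, hi⟩ := Opens.mem_iSup.1 ((eq_top_iff.1 ((Opens.coversTop_iff _ _).1 q.coversTop)) (Opens.mem_top x))
  let V : X.Opens := q.X i
  let I := (q.generators i).I
  let E := Scheme.Modules.overEquiv V
  let F : SheafOfModules.{u} (X.ringCatSheaf.over V) ⥤ SheafOfModules.{u} (V : Scheme.{u}).ringCatSheaf :=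
    E.functor
  haveI : PreservesColimitsOfSize.{u, u} F :=
    Adjunction.leftAdjoint_preservesColimits.{u, u} E.toAdjunction
  let e (N : X.Modules) : F.obj (SheafOfModules.over N V) ≅ N.restrict V.ι :=
    (Scheme.Modules.overFunctorEquiv V).app N
  have := hq.isIso i
  let θ : SheafOfModules.free (R := (V : Scheme.{u}).ringCatSheaf) I ≅ M.restrict V.ι :=
    SheafOfModules.mapFreeIso F I
        ((Scheme.Modules.restrictUnitIso V.ι).symm ≪≫ (e (SheafOfModules.unit X.ringCatSheaf)).symm) ≪≫
      F.mapIso (asIso (q.generators i).π) ≪≫ e M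
  obtain ⟨W, hW, hxW, -⟩ :=
    exists_isAffineOpen_mem_and_subset (X := V.toScheme) (x := ⟨x, hi⟩) (U := ⊤) trivial
  let j : Spec Γ(V.toScheme, W) ⟶ V.toScheme := hW.fromSpec
  have : Nonempty W := ⟨⟨_, hxW⟩⟩
  haveI : PreservesColimitsOfSize.{u, u} (Scheme.Modules.restrictFunctor j) :=
    haveI : PreservesColimitsOfSize.{u, u} (Scheme.Modules.pullback j) :=
      (Scheme.Modules.pullbackPushforwardAdjunction j).leftAdjoint_preservesColimits
    preservesColimits_of_natIso (Scheme.Modules.restrictFunctorIsoPullback j).symm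
  let θ' : SheafOfModules.free (R := (Spec Γ(V.toScheme, W)).ringCatSheaf) I ≅
      (Scheme.Modules.restrictFunctor j).obj (M.restrict V.ι) :=
    SheafOfModules.mapFreeIso (Scheme.Modules.restrictFunctor j) I
        (Scheme.Modules.restrictUnitIso j).symm ≪≫
      (Scheme.Modules.restrictFunctor j).mapIso θ
  have : Finite I := finite_of_isFT_free (R := Γ(V.toScheme, W))
    (@Modules.SupportOps.isFT_of_iso _ _ _ θ'.symm (H56.RelPC.isFT_restrict (H56.RelPC.isFT_restrict hM V.ι) j))
  obtain ⟨n, ⟨g⟩⟩ := Finite.exists_equiv_fin I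
  exact ⟨V, n, hi, ⟨θ.symm ≪≫ freeIso g⟩⟩

end Groth.Agent.H14.GerbeDesc
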