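import Groth.Agent.H14.GerbeDesc.Algebra
import Groth.Agent.H14.GerbeDesc.LocFree
import Groth.Agent.Lib.DescAlg.FPPush
import Groth.Agent.Lib.ZarCoh.FlatBC.PullbackSections
import Mathlib.AlgebraicGeometry.Morphisms.Flat
import Mathlib.AlgebraicGeometry.Morphisms.UniversallyOpen

/-!
Finite type, finite presentation and finite local freeness descend along fppf families.
-/

set_option autoImplicit false
set_option backward.isDefEq.respectTransparency false
set_option backward.isDefEq.respectTransparency.types false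
set_option linter.style.haveILetI false

universe u

open CategoryTheory CategoryTheory.Limits AlgebraicGeometry Opposite TopologicalSpace TensorProduct
open Groth.Agent.Lib Groth.Agent.Lib.Modules.AffineSections

namespace Groth.Agent.H14.GerbeDesc

variable {T : Scheme.{u}}

/-- A family of flat finitely presented maps, with the given property of the pullbacks, reaching all points. -/
def FppfWhere (G : T.Modules) (P : ∀ {Z : Scheme.{u}}, Z.Modules → Prop) : Prop :=
  ∀ x : T, ∃ (Z : Scheme.{u}) (c : Z ⟶ T), Flat c ∧ LocallyOfFinitePresentation c ∧ x ∈ Set.range c ∧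
    P ((Scheme.Modules.pullback c).obj G)

variable {G : T.Modules} [G.IsQuasicoherent] {P : ∀ {Z : Scheme.{u}}, Z.Modules → Prop}

theorem exists_algebras (h : FppfWhere G @P) {V : T.Opens} (hV : IsAffineOpen V) :
    ∃ (J : Type u) (_ : Finite J) (B : J → Type u) (_ : ∀ j, CommRing (B j))
      (_ : ∀ j, Algebra Γ(T, V) (B j)), (∀ j, Module.Flat Γ(T, V) (B j)) ∧ JointlySurj Γ(T, V) B ∧
      ∀ j, ∃ (Z : Scheme.{u}) (N : Z.Modules) (_ : N.IsQuasicoherent) (W : Z.Opens) (_ : IsAffineOpen W)
        (σ : B j ≃+* Γ(Z, W)) (e : (B j ⊗[Γ(T, V)] Γ(G, V)) ≃+ Γ(N, W)),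
        P N ∧ ∀ b t, e (b • t) = σ b • e t := by
  classical
  choose Z c hfl hfp hx hP using fun x : V => h x.1
  choose z hz using hx
  have hW : ∀ x : V, ∃ W : (Z x).Opens, IsAffineOpen W ∧ z x ∈ W ∧ W ≤ c x ⁻¹ᵁ V := fun x => by
    obtain ⟨W, hW, hzW, hle⟩ := exists_isAffineOpen_mem_and_subset (X := Z x) (x := z x) (U := c x ⁻¹ᵁ V)
      (show c x (z x) ∈ V by rw [hz]; exact x.2)
    exact ⟨W, hW, hzW, hle⟩
  choose W hW hzW hle using hW
  obtain ⟨s, hs⟩ := hV.isCompact.elim_finite_subcover (fun x : V => c x '' (W x : Set (Z x)))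
    (fun x => by
      have := hfl x
      have := hfp x
      exact (c x).isOpenMap _ (W x).isOpen)
    (fun y hy => Set.mem_iUnion.2 ⟨⟨y, hy⟩, z ⟨y, hy⟩, hzW _, hz _⟩)
  let : ∀ j : s, Algebra Γ(T, V) Γ(Z j.1, W j.1) :=
    fun j => ((c j.1).appLE V (W j.1) (hle j.1)).hom.toAlgebra
  refine ⟨s, inferInstance, fun j => Γ(Z j.1, W j.1), inferInstance, inferInstance, fun j => ?_, fun p => ?_,
    fun j => ⟨Z j.1, (Scheme.Modules.pullback (c j.1)).obj G, QCoh.Pullback.isQCoh_pullback _ G, W j.1, hW j.1,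
      RingEquiv.refl _, (LinearEquiv.ofBijective _ (ZarCoh.FlatBC.PullbackSections.bijective_pbTensor (c j.1) G hV
        (hW j.1) (hle j.1))).toAddEquiv, hP j.1, fun b t => ?_⟩⟩
  · exact HasRingHomProperty.appLE (P := @Flat) _ (hfl j.1) ⟨V, hV⟩ ⟨W j.1, hW j.1⟩ (hle j.1)
  · have hy : hV.fromSpec p ∈ V := hV.opensRange_fromSpec.le ⟨p, rfl⟩
    obtain ⟨x, hxs, w, hw, hwy⟩ := Set.mem_iUnion₂.1 (hs hy)
    refine ⟨⟨x, hxs⟩, (hW x).primeIdealOf ⟨w, hw⟩, hV.fromSpec.isOpenEmbedding.injective ?_⟩
    rw [← hwy]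
    have e := IsAffineOpen.SpecMap_appLE_fromSpec (c x) hV (hW x) (hle x)
    refine Eq.trans ?_ (congrArg (c x) ((hW x).fromSpec_primeIdealOf ⟨w, hw⟩))
    exact congrArg (fun m : Spec Γ(Z x, W x) ⟶ T => m ((hW x).primeIdealOf ⟨w, hw⟩)) e
  · exact (LinearEquiv.ofBijective _ (ZarCoh.FlatBC.PullbackSections.bijective_pbTensor (c j.1) G hV
      (hW j.1) (hle j.1))).map_smul b t

/-- A semilinear bijection as a linear one. -/
theorem exists_linearEquiv {A B M N : Type u} [CommRing A] [CommRing B] [AddCommGroup M] [AddCommGroup N]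
    [Module A M] [Module B N] (σ : A ≃+* B) (e : M ≃+ N) (h : ∀ a m, e (a • m) = σ a • e m) :
    (Module.Finite B N → Module.Finite A M) ∧
      (Module.FinitePresentation B N → Module.FinitePresentation A M) ∧
      (Module.Flat B N → Module.Flat A M) := by
  let : Algebra A B := σ.toRingHom.toAlgebra
  let : Module A N := Module.compHom N σ.toRingHom
  have : IsScalarTower A B N := IsScalarTower.of_algebraMap_smul fun _ _ => rfl
  let l : N ≃ₗ[A] M := (e.toLinearEquiv fun a m => h a m).symm
  let b : B ≃ₗ[A] A :=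
    { σ.symm.toAddEquiv with
      map_smul' := fun a b => by
        change σ.symm (σ a * b) = a * σ.symm b
        rw [map_mul, RingEquiv.symm_apply_apply] }
  refine ⟨fun _ => ?_, fun _ => ?_, fun _ => ?_⟩
  · have : Module.Finite A B := Module.Finite.equiv b.symm
    have := Module.Finite.trans (R := A) B N
    exact Module.Finite.equiv l
  · have : Module.FinitePresentation A B := Module.FinitePresentation.of_equiv b.symm
    have := Module.FinitePresentation.trans A N B
    exact Module.FinitePresentation.of_equiv l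
  · have : Module.Flat A B := Module.Flat.of_linearEquiv b
    have := Module.Flat.trans A B N
    exact Module.Flat.of_linearEquiv l.symm

theorem isFT_of_fppfWhere (h : FppfWhere G (fun N => CohB1.IsFT N)) : CohB1.IsFT G := by
  refine CohBasics.Affine.isFiniteType_of_finite_sections fun x => ?_
  obtain ⟨V, hV, hxV, -⟩ := exists_isAffineOpen_mem_and_subset (X := T) (x := x) (U := ⊤) trivial
  obtain ⟨J, _, B, _, _, hfl, hsurj, hN⟩ := exists_algebras h hV
  refine ⟨V, hV, hxV, finite_of_baseChange hsurj fun j => ?_⟩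
  obtain ⟨Z, N, _, W, hW, σ, e, hP, he⟩ := hN j
  have : SheafOfModules.IsFiniteType (R := Z.ringCatSheaf) N := hP
  exact (exists_linearEquiv σ e he).1 (CohBasics.Affine.finite_sections hW)

theorem isFP_of_fppfWhere (h : FppfWhere G (fun N => CohB1.IsFP N)) : CohB1.IsFP G := by
  refine DescAlg.FPPush.isFP_of_sections G fun x => ?_
  obtain ⟨V, hV, hxV, -⟩ := exists_isAffineOpen_mem_and_subset (X := T) (x := x) (U := ⊤) trivial
  obtain ⟨J, _, B, _, _, hfl, hsurj, hN⟩ := exists_algebras h hV
  refine ⟨V, hV, hxV, finitePresentation_of_baseChange hsurj fun j => ?_⟩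
  obtain ⟨Z, N, _, W, hW, σ, e, hP, he⟩ := hN j
  exact (exists_linearEquiv σ e he).2.1 (DescAlg.FPPush.finitePresentation_sections hW N hP)

theorem isFinLocFree_of_fppfWhere (h : FppfWhere G (fun N => FlatMod.IsFinLocFree N)) :
    FlatMod.IsFinLocFree G := by
  refine isFinLocFree_of_sections fun x => ?_
  obtain ⟨V, hV, hxV, -⟩ := exists_isAffineOpen_mem_and_subset (X := T) (x := x) (U := ⊤) trivial
  obtain ⟨J, _, B, _, _, hfl, hsurj, hN⟩ := exists_algebras h hV
  have hfp : Module.FinitePresentation Γ(T, V) Γ(G, V) := finitePresentation_of_baseChange hsurj fun j => by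
    obtain ⟨Z, N, _, W, hW, σ, e, hP, he⟩ := hN j
    exact (exists_linearEquiv σ e he).2.1
      (DescAlg.FPPush.finitePresentation_sections hW N (TensorMod.FPConv.isFP_of_isFinLocFree hP))
  have hflat : Module.Flat Γ(T, V) Γ(G, V) := flat_of_baseChange hsurj fun j => by
    obtain ⟨Z, N, _, W, hW, σ, e, hP, he⟩ := hN j
    exact (exists_linearEquiv σ e he).2.2 (flat_sections (TensorMod.FPConv.isFlat_of_isFinLocFree hP) hW)
  exact ⟨V, hV, hxV, inferInstance, Module.Flat.projective_of_finitePresentation⟩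

end Groth.Agent.H14.GerbeDesc
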