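import Mathlib.RingTheory.Flat.Basic
import Mathlib.RingTheory.Flat.Stability
import Mathlib.RingTheory.Ideal.Maximal
import Mathlib.RingTheory.TensorProduct.Finite
import Mathlib.Algebra.Module.FinitePresentation
import Mathlib.RingTheory.Spectrum.Prime.Topology
import Mathlib.LinearAlgebra.TensorProduct.Quotient

/-!
Descent of finiteness along jointly surjective flat families of algebras.
-/

set_option autoImplicit false

universe u

open TensorProduct LinearMap

namespace Groth.Agent.H14.GerbeDesc

variable {R : Type u} [CommRing R] {J : Type*} (B : J → Type u) [∀ j, CommRing (B j)] [∀ j, Algebra R (B j)]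

variable (R) in
/-- The images of the spectra cover. -/
def JointlySurj : Prop := ∀ p : PrimeSpectrum R, ∃ (j : J) (q : PrimeSpectrum (B j)), q.comap (algebraMap R (B j)) = p

variable {B} {M : Type u} [AddCommGroup M] [Module R M] [∀ j, Module.Flat R (B j)] (hB : JointlySurj R B)

include hB

theorem subsingleton_of_baseChange (h : ∀ j, Subsingleton (B j ⊗[R] M)) : Subsingleton M := by
  refine ⟨fun x y => sub_eq_zero.1 ?_⟩
  by_contra hne
  set z := x - y
  let φ : R →ₗ[R] M := LinearMap.toSpanSingleton R M z
  have htop : LinearMap.ker φ ≠ ⊤ := fun e => hne (by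
    simpa [φ] using (show (1 : R) ∈ LinearMap.ker φ from e ▸ Submodule.mem_top))
  obtain ⟨m, hm, hle⟩ := Ideal.exists_le_maximal (LinearMap.ker φ) htop
  obtain ⟨j, q, hq⟩ := hB ⟨m, hm.isPrime⟩
  have hinj : Function.Injective
      ((Submodule.liftQ (LinearMap.ker φ) φ le_rfl).lTensor (B j)) :=
    Module.Flat.lTensor_preserves_injective_linearMap _
      (LinearMap.ker_eq_bot.1 (Submodule.ker_liftQ_eq_bot _ _ le_rfl le_rfl))
  have := h j
  have hsub : Subsingleton (B j ⊗[R] (R ⧸ LinearMap.ker φ)) := hinj.subsingleton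
  let I : Ideal R := LinearMap.ker φ
  refine q.2.ne_top (Ideal.eq_top_of_isUnit_mem _ (x := (1 : B j)) ?_ isUnit_one)
  have h2 : (1 : B j) ∈ I.map (algebraMap R (B j)) := by
    have := (TensorProduct.tensorQuotEquivQuotSMul (B j) I).symm.toEquiv.subsingleton
    have h1 : (I • ⊤ : Submodule R (B j)) = ⊤ := Submodule.Quotient.subsingleton_iff.1 this
    rw [Ideal.smul_top_eq_map] at h1
    exact (show (1 : B j) ∈ (I.map (algebraMap R (B j))).restrictScalars R from h1 ▸ Submodule.mem_top)
  refine Ideal.map_le_iff_le_comap.2 (hle.trans ?_) h2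
  rw [← PrimeSpectrum.comap_asIdeal, hq]

theorem injective_of_baseChange {N : Type u} [AddCommGroup N] [Module R N] (f : M →ₗ[R] N)
    (h : ∀ j, Function.Injective (f.lTensor (B j))) : Function.Injective f := by
  rw [← LinearMap.ker_eq_bot]
  refine Submodule.subsingleton_iff_eq_bot.1 (subsingleton_of_baseChange hB fun j => ⟨fun a b => ?_⟩)
  apply Module.Flat.lTensor_preserves_injective_linearMap (LinearMap.ker f).subtype Subtype.val_injective
  apply h j
  rw [← LinearMap.comp_apply, ← LinearMap.comp_apply, ← LinearMap.lTensor_comp, LinearMap.comp_ker_subtype]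
  simp

theorem surjective_of_baseChange {N : Type u} [AddCommGroup N] [Module R N] (f : M →ₗ[R] N)
    (h : ∀ j, Function.Surjective (f.lTensor (B j))) : Function.Surjective f := by
  rw [← LinearMap.range_eq_top, ← Submodule.Quotient.subsingleton_iff]
  refine subsingleton_of_baseChange hB fun j => ⟨fun a b => ?_⟩
  have hs : Function.Surjective ((LinearMap.range f).mkQ.lTensor (B j)) :=
    LinearMap.lTensor_surjective _ (Submodule.mkQ_surjective _)
  have key : ∀ c : B j ⊗[R] (N ⧸ LinearMap.range f), c = 0 := fun c => by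
    obtain ⟨c, rfl⟩ := hs c
    obtain ⟨c, rfl⟩ := h j c
    rw [← LinearMap.comp_apply, ← LinearMap.lTensor_comp, LinearMap.range_mkQ_comp]
    simp
  rw [key a, key b]

theorem finite_of_baseChange [Finite J] (h : ∀ j, Module.Finite (B j) (B j ⊗[R] M)) : Module.Finite R M := by
  classical
  have hfin : ∀ j, ∃ s : Finset M, Submodule.span (B j) ((fun m : M => (1 : B j) ⊗ₜ[R] m) '' s) = ⊤ := fun j => by
    obtain ⟨T, hT⟩ := (h j).fg_top
    have hex : ∀ t : B j ⊗[R] M, ∃ s : Finset M, t ∈ Submodule.span (B j) ((fun m : M => (1 : B j) ⊗ₜ[R] m) '' s) := by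
      intro t
      induction t with
      | zero => exact ⟨∅, zero_mem _⟩
      | tmul b m =>
        refine ⟨{m}, ?_⟩
        have : b ⊗ₜ[R] m = b • ((1 : B j) ⊗ₜ[R] m) := by rw [TensorProduct.smul_tmul', smul_eq_mul, mul_one]
        rw [this]
        exact Submodule.smul_mem _ _ (Submodule.subset_span ⟨m, by simp, rfl⟩)
      | add x y hx hy =>
        obtain ⟨s, hs⟩ := hx
        obtain ⟨t, ht⟩ := hy
        refine ⟨s ∪ t, add_mem (Submodule.span_mono ?_ hs) (Submodule.span_mono ?_ ht)⟩ <;>
          exact Set.image_mono (by simp)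
    choose s hs using hex
    refine ⟨T.biUnion s, eq_top_iff.2 (hT ▸ Submodule.span_le.2 fun t ht => ?_)⟩
    exact Submodule.span_mono (Set.image_mono (Finset.coe_subset.2 (Finset.subset_biUnion_of_mem s ht))) (hs t)
  choose s hs using hfin
  have := Fintype.ofFinite J
  let N : Submodule R M := Submodule.span R (Finset.univ.biUnion s : Finset M)
  refine ⟨⟨Finset.univ.biUnion s, eq_top_iff.2 fun m _ => ?_⟩⟩
  suffices hsur : ∀ j, Function.Surjective (N.subtype.lTensor (B j)) by
    obtain ⟨n, rfl⟩ := surjective_of_baseChange hB N.subtype hsur m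
    exact n.2
  intro j
  refine LinearMap.range_eq_top.1 (eq_top_iff.2 fun x _ => ?_)
  have hx : x ∈ Submodule.span (B j) ((fun m : M => (1 : B j) ⊗ₜ[R] m) '' s j) := hs j ▸ Submodule.mem_top
  have hle : Submodule.span (B j) ((fun m : M => (1 : B j) ⊗ₜ[R] m) '' s j) ≤
      LinearMap.range (N.subtype.baseChange (B j)) := by
    refine Submodule.span_le.2 ?_
    rintro _ ⟨m, hm, rfl⟩
    exact ⟨1 ⊗ₜ ⟨m, Submodule.subset_span (by simpa using ⟨j, hm⟩)⟩, rfl⟩
  obtain ⟨y, rfl⟩ := hle hx
  exact ⟨y, rfl⟩

theorem finitePresentation_of_baseChange [Finite J] (h : ∀ j, Module.FinitePresentation (B j) (B j ⊗[R] M)) :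
    Module.FinitePresentation R M := by
  have := finite_of_baseChange hB (M := M) fun j => have := h j; inferInstance
  obtain ⟨n, f, hf⟩ := Module.Finite.exists_fin' R M
  refine Module.finitePresentation_of_surjective f hf (Module.Finite.iff_fg.1 (finite_of_baseChange hB fun j => ?_))
  have := h j
  have hs : Function.Surjective (f.baseChange (B j)) := LinearMap.lTensor_surjective (B j) hf
  have hk := Module.FinitePresentation.fg_ker (f.baseChange (B j)) hs
  have hi : Function.Injective ((LinearMap.ker f).subtype.baseChange (B j)) :=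
    Module.Flat.lTensor_preserves_injective_linearMap (M := B j) _ Subtype.val_injective
  have hr : LinearMap.range ((LinearMap.ker f).subtype.baseChange (B j)) = LinearMap.ker (f.baseChange (B j)) := by
    refine SetLike.coe_injective ?_
    have := lTensor_exact (B j) (LinearMap.exact_subtype_ker_map f) hf
    ext x
    exact (this x).symm
  rw [← hr] at hk
  have : Module.Finite (B j) (LinearMap.range ((LinearMap.ker f).subtype.baseChange (B j))) :=
    Module.Finite.iff_fg.2 hk
  exact Module.Finite.equiv (LinearEquiv.ofInjective _ hi).symm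

theorem flat_of_baseChange (h : ∀ j, Module.Flat (B j) (B j ⊗[R] M)) : Module.Flat R M := by
  rw [Module.Flat.iff_lTensor_preserves_injective_linearMap]
  intro N N' _ _ _ _ f hf
  refine injective_of_baseChange hB _ fun j => ?_
  have := h j
  have : Module.Flat R (B j ⊗[R] M) := Module.Flat.trans R (B j) _
  have hi : Function.Injective (f.lTensor (B j ⊗[R] M)) := Module.Flat.lTensor_preserves_injective_linearMap f hf
  rw [LinearMap.lTensor_tensor] at hi
  intro a b hab
  refine (TensorProduct.assoc R (B j) M N).symm.injective (hi ?_)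
  simp [hab]

end Groth.Agent.H14.GerbeDesc
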